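import Groth.Agent.L25.Dyn.TorusCentralizer
import Mathlib.RingTheory.Nakayama
import Mathlib.RingTheory.Finiteness.Basic

/-!
# Weights of a torus on the cotangent space of a group

The conjugation action of a torus grades the coordinate ring. If a one-parameter subgroup acts non-trivially it pairs
non-trivially with some weight occurring in the cotangent space, and for such a weight the kernel of the weight has a
larger centralizer than the torus.
-/

set_option autoImplicit false
set_option linter.unusedSectionVars false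
set_option linter.deprecated false
set_option linter.style.haveILetI false

universe u

open TensorProduct WithConv AddMonoidAlgebra Groth.L25.Dyn

noncomputable section

namespace Groth.L06.CoxeterElt

variable {K : Type u} [Field K] {A : Type u} [CommRing A] [HopfAlgebra K A] {r : ℕ}
  (φ : A →ₐc[K] AddMonoidAlgebra K (Fin r → ℤ))

/-- the component of a given weight -/
def piece (m : Fin r → ℤ) (a : A) : A := (torO φ a).coeff m

/-- the augmentation ideal -/
abbrev aug (K A : Type u) [Field K] [CommRing A] [HopfAlgebra K A] : Ideal A :=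
  RingHom.ker (Bialgebra.counitAlgHom K A)

theorem exists_injOn (F : Finset (Fin r → ℤ)) :
    ∃ w : (Fin r → ℤ) →+ ℤ, Set.InjOn w (F : Set (Fin r → ℤ)) := by
  classical
  obtain ⟨w, hw⟩ := exists_generic ((F ×ˢ F).image fun p => p.1 - p.2)
  refine ⟨w, fun a ha b hb hab => by_contra fun hne => ?_⟩
  exact hw (a - b) (Finset.mem_image.2 ⟨(a, b), Finset.mem_product.2 ⟨ha, hb⟩, rfl⟩) (sub_ne_zero.2 hne)
    (by rw [map_sub, hab, sub_self])

theorem pr_eq_piece {w : (Fin r → ℤ) →+ ℤ} {F : Finset (Fin r → ℤ)} (hw : Set.InjOn w (F : Set (Fin r → ℤ)))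
    {a : A} (ha : (torO φ a).coeff.support ⊆ F) {m : Fin r → ℤ} (hm : m ∈ F) :
    pr (lamW φ w) (w m) a = piece φ m a := by
  show (cO (lamW φ w) a).coeff (w m) = _
  rw [← mapDomain_torO]
  exact Finsupp.mapDomain_apply' (F : Set (Fin r → ℤ)) _ (fun x hx => ha hx) hw hm

/-- components are homogeneous -/
theorem torO_piece (m : Fin r → ℤ) (a : A) : torO φ (piece φ m a) = single m (piece φ m a) := by
  classical
  let p := piece φ m a
  let F : Finset (Fin r → ℤ) := insert m ((torO φ a).coeff.support ∪ (torO φ p).coeff.support)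
  obtain ⟨w, hw⟩ := exists_injOn F
  have hp : pr (lamW φ w) (w m) a = p := pr_eq_piece φ hw
    (fun x hx => Finset.mem_insert_of_mem (Finset.mem_union_left _ hx)) (Finset.mem_insert_self _ _)
  have hhom : Hom (lamW φ w) (w m) p := hp ▸ hom_pr (lamW φ w) (w m) a
  ext x
  rw [coeff_single_apply]
  by_cases hx : x ∈ F
  · have h1 : pr (lamW φ w) (w x) p = piece φ x p := pr_eq_piece φ hw
      (fun y hy => Finset.mem_insert_of_mem (Finset.mem_union_right _ hy)) hx
    rw [hhom.pr_eq] at h1
    show piece φ x p = _
    rw [← h1]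
    by_cases he : m = x
    · rw [if_pos he, if_pos (congrArg w he)]
    · rw [if_neg he, if_neg fun e => he (hw (Finset.mem_insert_self _ _) hx e)]
  · rw [if_neg (fun e : m = x => hx (e ▸ Finset.mem_insert_self _ _))]
    exact Finsupp.notMem_support_iff.1 fun h => hx (Finset.mem_insert_of_mem (Finset.mem_union_right _ h))

theorem sum_piece (a : A) : ∑ m ∈ (torO φ a).coeff.support, piece φ m a = a := by
  classical
  obtain ⟨w, hw⟩ := exists_injOn (torO φ a).coeff.support
  have h : (cO (lamW φ w) a).coeff.support = (torO φ a).coeff.support.image w := by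
    rw [← mapDomain_torO]
    exact Finsupp.mapDomain_support_of_injOn _ hw
  conv_rhs => rw [← sum_pr (lamW φ w) a, h, Finset.sum_image hw]
  exact Finset.sum_congr rfl fun m hm => (pr_eq_piece φ hw (Finset.Subset.refl _) hm).symm

theorem counit_piece {m : Fin r → ℤ} (hm : m ≠ 0) (a : A) : piece φ m a ∈ aug K A := by
  classical
  let p := piece φ m a
  obtain ⟨w, hw⟩ := exists_injOn (insert m {(0 : Fin r → ℤ)})
  refine RingHom.mem_ker.2 (counit_eq_zero (lamW φ w) (n := w m) (a := piece φ m a) ?_ fun e => hm ?_)
  · show cO (lamW φ w) p = _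
    rw [← mapDomain_torO, torO_piece]
    exact AddMonoidAlgebra.mapDomain_single
  · exact hw (by simp) (by simp) (by rw [e, map_zero])

/-- components of elements of the augmentation ideal lie in it -/
theorem piece_mem_aug {a : A} (ha : a ∈ aug K A) (m : Fin r → ℤ) : piece φ m a ∈ aug K A := by
  classical
  by_cases hm : m = 0
  · subst hm
    by_cases h0 : (0 : Fin r → ℤ) ∈ (torO φ a).coeff.support
    · have h := sum_piece φ a
      rw [← Finset.add_sum_erase _ _ h0] at h
      rw [eq_sub_of_add_eq h]
      exact Ideal.sub_mem _ ha (Ideal.sum_mem _ fun x hx => counit_piece φ (Finset.mem_erase.1 hx).1 a)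
    · rw [piece, Finsupp.notMem_support_iff.1 h0]
      exact Ideal.zero_mem _
  · exact counit_piece φ hm a

theorem piece_mul (a b : A) (m : Fin r → ℤ) :
    piece φ m (a * b) = ∑ i ∈ (torO φ a).coeff.support, piece φ i a * piece φ (m - i) b := by
  classical
  show (torO φ (a * b)).coeff m = _
  conv_lhs => rw [map_mul]
  have h1 : torO φ a = ∑ i ∈ (torO φ a).coeff.support, single i (piece φ i a) := by
    ext x
    simp only [coeff_sum, Finset.sum_apply', coeff_single_apply, Finset.sum_ite_eq']
    by_cases hx : x ∈ (torO φ a).coeff.support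
    · rw [if_pos hx]; rfl
    · rw [if_neg hx]; exact Finsupp.notMem_support_iff.1 hx
  conv_lhs => rw [h1, Finset.sum_mul]
  simp only [coeff_sum, Finset.sum_apply']
  refine Finset.sum_congr rfl fun i _ => ?_
  rw [coeff_single_mul_apply]
  congr 1
  rw [neg_add_eq_sub]
  rfl

theorem piece_add (a b : A) (m : Fin r → ℤ) : piece φ m (a + b) = piece φ m a + piece φ m b := by
  simp [piece]

theorem piece_of_hom {n : Fin r → ℤ} {h : A} (hh : torO φ h = single n h) (b : A) (m : Fin r → ℤ) :
    piece φ m (b * h) = piece φ (m - n) b * h := by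
  show (torO φ (b * h)).coeff m = _
  rw [map_mul, hh, coeff_mul_single_apply, sub_eq_add_neg]
  rfl

/-- Some weight of the cotangent space pairs non-trivially with an effective one-parameter subgroup. -/
theorem exists_weight [IsDomain A] [IsNoetherianRing A] (w : (Fin r → ℤ) →+ ℤ) {x : A} {m : Fin r → ℤ}
    (hm : w m ≠ 0) (hx : piece φ m x ≠ 0) :
    ∃ (a : Fin r → ℤ) (y : A), w a ≠ 0 ∧ piece φ a y ∉ aug K A ^ 2 := by
  classical
  by_contra hcon
  push Not at hcon
  let E : Ideal A := Ideal.span {z | ∃ n y, w n ≠ 0 ∧ z = piece φ n y}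
  have hE : E ≤ aug K A * E := by
    refine Ideal.span_le.2 ?_
    rintro _ ⟨n, y, hn, rfl⟩
    have key : ∀ z ∈ aug K A * aug K A, ∀ q, w q ≠ 0 → piece φ q z ∈ aug K A * E := by
      intro z hz
      refine Submodule.mul_induction_on hz (fun u hu v hv q hq => ?_) fun u v hu hv q hq => ?_
      · rw [piece_mul]
        refine Ideal.sum_mem _ fun i _ => ?_
        by_cases hi : w i = 0
        · refine Ideal.mul_mem_mul (piece_mem_aug φ hu i) (Ideal.subset_span ⟨q - i, v, ?_, rfl⟩)
          rw [map_sub, hi, sub_zero]; exact hq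
        · rw [mul_comm (piece φ i u)]
          exact Ideal.mul_mem_mul (piece_mem_aug φ hv _) (Ideal.subset_span ⟨i, u, hi, rfl⟩)
      · rw [piece_add]; exact Ideal.add_mem _ (hu q hq) (hv q hq)
    have h1 := key _ (by rw [← pow_two]; exact hcon n y hn) n hn
    have h2 : piece φ n (piece φ n y) = piece φ n y := by
      rw [piece, torO_piece, coeff_single_apply, if_pos rfl]
    rwa [h2] at h1
  obtain ⟨e, he1, he2⟩ := Submodule.exists_sub_one_mem_and_smul_eq_zero_of_fg_of_le_smul (aug K A) E
    (IsNoetherian.noetherian E) (by simpa [smul_eq_mul] using hE)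
  have he0 : e ≠ 0 := by
    rintro rfl
    have := RingHom.mem_ker.1 he1
    simp at this
  have h3 : e * piece φ m x = 0 := he2 _ (Ideal.subset_span ⟨m, x, hm, rfl⟩)
  exact (mul_ne_zero he0 hx) h3

/-- A point killing all components of weights outside the kernel commutes with the subtorus of the kernel. -/
theorem torCommutes_of_pieces {r' : ℕ} (p : (Fin r → ℤ) →+ (Fin r' → ℤ)) {D : Type u} [CommRing D] [Algebra K D]
    (q : A →ₐ[K] D) (hq : ∀ i b, p i ≠ 0 → q (piece φ i b) = 0) :
    TorCommutes ((AddMonoidAlgebra.mapDomainBialgHom K p).comp φ) q := by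
  classical
  refine TorCommutes.of_universal _ ?_
  have key : (mapAlgHom (Fin r' → ℤ) q).comp (torO ((AddMonoidAlgebra.mapDomainBialgHom K p).comp φ)) =
      (cstM D).comp q := by
    have hmd : pmap (AddMonoidAlgebra.mapDomainAlgHom K A p) (toConv (torO φ)) =
        toConv (torO ((AddMonoidAlgebra.mapDomainBialgHom K p).comp φ)) := by
      have ht : pmap (AddMonoidAlgebra.mapDomainAlgHom K A p) (torP φ A) =
          torP ((AddMonoidAlgebra.mapDomainBialgHom K p).comp φ) A := by
        refine WithConv.ext (AlgHom.ext fun b => ?_)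
        show AddMonoidAlgebra.mapDomainAlgHom K A p (mapAlgHom _ (Algebra.ofId K A) (φ b)) =
          mapAlgHom _ (Algebra.ofId K A) (AddMonoidAlgebra.mapDomainBialgHom K p (φ b))
        generalize φ b = z
        induction z using AddMonoidAlgebra.induction_linear with
        | zero => simp
        | add u v hu hv => simp only [map_add, hu, hv]
        | single i c => simp [AddMonoidAlgebra.mapDomain_single]
      rw [torO, torO, toConv_ofConv, toConv_ofConv, map_mul, map_mul, map_inv, ht]
      congr 2
      refine WithConv.ext (AlgHom.ext fun b => ?_)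
      show AddMonoidAlgebra.mapDomainAlgHom K A p (single 0 b) = single 0 b
      rw [AddMonoidAlgebra.mapDomainAlgHom_apply, AddMonoidAlgebra.mapDomain_single, map_zero]
    refine AlgHom.ext fun b => ?_
    have hb : torO ((AddMonoidAlgebra.mapDomainBialgHom K p).comp φ) b =
        AddMonoidAlgebra.mapDomainAlgHom K A p (torO φ b) := (DFunLike.congr_fun (congrArg WithConv.ofConv hmd) b).symm
    have hsum : torO φ b = ∑ i ∈ (torO φ b).coeff.support, single i (piece φ i b) :=
      (sum_single (torO φ b)).symm
    show mapAlgHom _ q (torO ((AddMonoidAlgebra.mapDomainBialgHom K p).comp φ) b) = single 0 (q b)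
    rw [hb, hsum, map_sum, map_sum]
    conv_rhs => rw [← sum_piece φ b, map_sum, ← singleAddHom_apply (M := Fin r' → ℤ), map_sum]
    refine Finset.sum_congr rfl fun i _ => ?_
    rw [singleAddHom_apply, AddMonoidAlgebra.mapDomainAlgHom_apply, AddMonoidAlgebra.mapDomain_single,
      mapAlgHom_single]
    by_cases hi : p i = 0
    · rw [hi]
    · rw [hq i b hi, single_zero, single_zero]
  have h3 : pmap (mapAlgHom (Fin r' → ℤ) q) (toConv (torO ((AddMonoidAlgebra.mapDomainBialgHom K p).comp φ))) =
      pmap (cstM D) (toConv q) := WithConv.ext key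
  rw [mapAlgHom_torO] at h3
  exact mul_inv_eq_iff_eq_mul.1 h3

/-- For a weight of the cotangent space the kernel of the weight commutes with more than the torus. -/
theorem exists_extra {r' : ℕ} (p : (Fin r → ℤ) →+ (Fin r' → ℤ)) {a : Fin r → ℤ} (hpa : p a = 0) (ha : a ≠ 0)
    {y : A} (hy : piece φ a y ∉ aug K A ^ 2) :
    ∃ (D : Type u) (_ : CommRing D) (_ : Algebra K D) (g : A →ₐ[K] D),
      TorCommutes ((AddMonoidAlgebra.mapDomainBialgHom K p).comp φ) g ∧ ¬ TorCommutes φ g := by
  classical
  let J : Ideal A := Ideal.span {z | ∃ n u, p n ≠ 0 ∧ z = piece φ n u}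
  let q : A →ₐ[K] A ⧸ J := Ideal.Quotient.mkₐ K J
  refine ⟨A ⧸ J, inferInstance, inferInstance, q, ?_, fun hq => hy ?_⟩
  · exact torCommutes_of_pieces φ p q fun i b hi =>
      Ideal.Quotient.eq_zero_iff_mem.2 (Ideal.subset_span ⟨i, b, hi, rfl⟩)
  · obtain ⟨w, hw⟩ := exists_injOn (insert a {(0 : Fin r → ℤ)})
    have hwa : w a ≠ 0 := fun e => ha (hw (by simp) (by simp) (by rw [e, map_zero]))
    have hhom : Hom (lamW φ w) (w a) (piece φ a y) := by
      show cO (lamW φ w) _ = _
      rw [← mapDomain_torO, torO_piece]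
      exact AddMonoidAlgebra.mapDomain_single
    have hker : q (piece φ a y) = 0 := by
      have h := DFunLike.congr_fun (hq.conjOrbit φ w) (piece φ a y)
      rw [hhom.conjOrbit] at h
      have h' := congrArg (fun z : LaurentPolynomial (A ⧸ J) => z.coeff (w a)) h
      simp only [AlgHom.comp_apply, coeff_single_apply, if_true] at h'
      refine h'.trans ?_
      show (single (0 : ℤ) (q (piece φ a y))).coeff (w a) = 0
      rw [coeff_single_apply, if_neg fun e => hwa e.symm]
    have hall : ∀ z ∈ J, ∀ n, p n = 0 → piece φ n z ∈ aug K A ^ 2 := by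
      intro z hz n hn
      suffices h : ∀ b n, p n = 0 → piece φ n (b * z) ∈ aug K A ^ 2 by simpa using h 1 n hn
      clear hn n
      refine Submodule.span_induction (p := fun z _ => ∀ b n, p n = 0 → piece φ n (b * z) ∈ aug K A ^ 2)
        ?_ (fun b n _ => ?_) (fun u v _ _ hu hv b n hn => ?_) (fun c u _ hu b n hn => ?_) hz
      · rintro _ ⟨i, u, hi, rfl⟩ b n hn
        rw [piece_of_hom φ (torO_piece φ i u), pow_two]
        have hi0 : i ≠ 0 := fun e => hi (by rw [e, map_zero])
        refine Ideal.mul_mem_mul (counit_piece φ (fun e => hi ?_) b) (counit_piece φ hi0 u)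
        rw [sub_eq_zero.1 e] at hn
        exact hn
      · simp [piece]
      · rw [mul_add, piece_add]; exact Ideal.add_mem _ (hu b n hn) (hv b n hn)
      · rw [smul_eq_mul, ← mul_assoc]; exact hu (b * c) n hn
    have h2 := hall _ (Ideal.Quotient.eq_zero_iff_mem.1 hker) a hpa
    rwa [piece, torO_piece, coeff_single_apply, if_pos rfl] at h2

end Groth.L06.CoxeterElt
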