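import Groth.Agent.L06.CoxeterElt.Torus
import Groth.Agent.L06.CoxeterElt.Weights
import Groth.Agent.L25.Dyn.CentConn

/-!
# Points commuting with subtori of a split torus
-/

set_option autoImplicit false
set_option linter.unusedSectionVars false
set_option linter.style.haveILetI false
set_option backward.isDefEq.respectTransparency.types false

universe u

open CategoryTheory CategoryTheory.Limits MonoidalCategory CartesianMonoidalCategory MonObj AlgebraicGeometry
open WithConv
open Groth.L25.Bridge (P)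
open Groth.L08.TorusQuot (sp sp_comp spA toPt ofPt toPt_ofPt toPt_pre toPt_post pre post SP)
open Groth.L25.Dyn (TorCommutes hom_ext_spec exists_algHom)

noncomputable section

namespace Groth.L06.CoxeterElt

variable {k : Type u} [Field k] {A : Type u} [CommRing A] [HopfAlgebra k A] {r r' : ℕ} (φ : A →ₐc[k] TB k r)

theorem commute_of_torCommutes (p : (Fin r → ℤ) →+ (Fin r' → ℤ)) {D : Type u} [CommRing D] [Algebra k D]
    {g : A →ₐ[k] D} (h : TorCommutes ((md k p).comp φ) g) {X : Over (Spec (CommRingCat.of k))} (x : X ⟶ SP k D)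
    (s : X ⟶ TT k r') :
    (x ≫ toPt (toConv g)) * (s ≫ dP k p ≫ sp φ) = (s ≫ dP k p ≫ sp φ) * (x ≫ toPt (toConv g)) := by
  refine hom_ext_spec _ _ fun R _ _ y => ?_
  simp only [MonObj.comp_mul, ← Category.assoc]
  obtain ⟨ψ, hψ⟩ := exists_algHom (y ≫ x)
  have e1 : (y ≫ x) ≫ toPt (toConv g) = toPt (post ψ (toConv g)) := by rw [toPt_post, hψ]; rfl
  have e2 : ((y ≫ s) ≫ dP k p) ≫ sp φ = toPt (pre φ (pre (md k p) (ofPt (y ≫ s)))) := by
    rw [toPt_pre, toPt_pre, toPt_ofPt]
  rw [e1, e2, toPt, toPt, ← map_mul, ← map_mul]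
  exact congrArg _ (h R ψ (ofPt (y ≫ s)).ofConv).symm

theorem torCommutes_of_factor {D : Type u} [CommRing D] [Algebra k D] (g : A →ₐ[k] D) (z : SP k D ⟶ TT k r)
    (hz : z ≫ sp φ = toPt (toConv g)) : TorCommutes φ g := by
  intro D' _ _ ψ χ
  have hg : toConv g = pre φ (ofPt z) := by
    refine Spec.mapMulEquiv.injective ?_
    show toPt (toConv g) = toPt (pre φ (ofPt z))
    rw [toPt_pre, toPt_ofPt, hz]
  have h1 := (Commute.all (toConv χ : Groth.L08.TorusQuot.Pt k (TB k r) D') (post ψ (ofPt z))).map (pre φ)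
  rw [Groth.L08.TorusQuot.pre_post, ← hg] at h1
  exact h1

end Groth.L06.CoxeterElt
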