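import Mathlib.LinearAlgebra.Matrix.ToLin
import Mathlib.LinearAlgebra.Matrix.Adjugate
import Mathlib.LinearAlgebra.Matrix.Nondegenerate
import Mathlib.LinearAlgebra.StdBasis
import Mathlib.LinearAlgebra.Dimension.Constructions
import Mathlib.RingTheory.Finiteness.Basic
import Mathlib.FieldTheory.IsAlgClosed.Basic
import Mathlib.Algebra.BigOperators.Group.Finset.Basic

/-!
# An element without fixed vectors in a finite group containing enough reflections

And the equation `χ ∘ (θ - 1) = c` for characters of a lattice with values in the units of an algebraically closed field.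
-/

set_option autoImplicit false
set_option linter.unusedSectionVars false
set_option linter.style.haveILetI false

universe u

noncomputable section

namespace Groth.L06.CoxeterElt

variable {r : ℕ}

/-- A finite monoid of endomorphisms with reflections along a spanning set has an element without fixed vectors. -/
theorem exists_fixedPointFree (W : Set ((Fin r → ℤ) →+ (Fin r → ℤ))) (hW : W.Finite) (h1 : AddMonoidHom.id _ ∈ W)
    (hmul : ∀ θ ∈ W, ∀ θ' ∈ W, θ.comp θ' ∈ W) (hinj : ∀ θ ∈ W, Function.Injective θ) (R : Set (Fin r → ℤ))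
    (hR : ∀ a ∈ R, ∃ θ ∈ W, θ a = -a ∧ ∀ x, ∃ q : ℤ, θ x - x = q • a)
    (hspan : ∀ f : (Fin r → ℤ) →+ ℤ, (∀ a ∈ R, f a = 0) → f = 0) :
    ∃ θ ∈ W, ∀ x, θ x = x → x = 0 := by
  classical
  -- an invariant form
  let B : (Fin r → ℤ) → (Fin r → ℤ) → ℤ := fun x y => ∑ θ ∈ hW.toFinset, ∑ i, θ x i * θ y i
  have hBinv : ∀ σ ∈ W, ∀ x y, B (σ x) (σ y) = B x y := by
    intro σ hσ x y
    let e : {θ // θ ∈ hW.toFinset} → {θ // θ ∈ hW.toFinset} := fun θ =>
      ⟨θ.1.comp σ, hW.mem_toFinset.2 (hmul _ (hW.mem_toFinset.1 θ.2) _ hσ)⟩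
    have he : Function.Injective e := fun θ θ' h => by
      refine Subtype.ext (AddMonoidHom.ext fun z => ?_)
      let L : {θ // θ ∈ hW.toFinset} → {θ // θ ∈ hW.toFinset} := fun θ =>
        ⟨σ.comp θ.1, hW.mem_toFinset.2 (hmul _ hσ _ (hW.mem_toFinset.1 θ.2))⟩
      have hL : Function.Injective L := fun φ φ' hφ => Subtype.ext (AddMonoidHom.ext fun v =>
        hinj σ hσ (DFunLike.congr_fun (congrArg Subtype.val hφ) v))
      obtain ⟨τ, hτ⟩ := (Finite.injective_iff_surjective.1 hL) ⟨_, hW.mem_toFinset.2 h1⟩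
      have hz : σ (τ.1 z) = z := DFunLike.congr_fun (congrArg Subtype.val hτ) z
      rw [← hz]
      exact DFunLike.congr_fun (congrArg Subtype.val h) _
    have hb := (Finite.injective_iff_bijective).1 he
    show ∑ θ ∈ hW.toFinset, ∑ i, θ (σ x) i * θ (σ y) i = ∑ θ ∈ hW.toFinset, ∑ i, θ x i * θ y i
    rw [← Finset.sum_coe_sort, ← Finset.sum_coe_sort hW.toFinset]
    exact Fintype.sum_bijective e hb _ _ fun θ => rfl
  have hBpos : ∀ x, B x x = 0 → x = 0 := by
    intro x hx
    have h := (Finset.sum_eq_zero_iff_of_nonneg fun θ _ => Finset.sum_nonneg fun i _ => mul_self_nonneg _).1 hx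
      _ (hW.mem_toFinset.2 h1)
    funext i
    have := (Finset.sum_eq_zero_iff_of_nonneg fun i _ => mul_self_nonneg _).1 h i (Finset.mem_univ i)
    exact mul_self_eq_zero.1 this
  let Bx : (Fin r → ℤ) → ((Fin r → ℤ) →+ ℤ) := fun x =>
    { toFun := fun y => B x y
      map_zero' := by simp [B]
      map_add' := fun y z => by simp [B, mul_add, Finset.sum_add_distrib] }
  -- products of reflections along independent vectors
  have key : ∀ s : Finset (Fin r → ℤ), (s : Set (Fin r → ℤ)) ⊆ R → LinearIndepOn ℤ id (s : Set (Fin r → ℤ)) →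
      ∃ θ ∈ W, (∀ x, θ x - x ∈ Submodule.span ℤ (s : Set (Fin r → ℤ))) ∧
        ∀ x, θ x = x → ∀ a ∈ s, B x a = 0 := by
    intro s
    induction s using Finset.induction_on with
    | empty => exact fun _ _ => ⟨_, h1, fun x => by simp, fun x _ a ha => by simp at ha⟩
    | insert a s has ih =>
      intro hsR hli
      rw [Finset.coe_insert] at hsR hli ⊢
      obtain ⟨θ', hθ', hsp, hfix⟩ := ih ((Set.subset_insert _ _).trans hsR) (hli.mono (Set.subset_insert _ _))
      obtain ⟨σ, hσ, hσa, hσx⟩ := hR a (hsR (Set.mem_insert _ _))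
      refine ⟨σ.comp θ', hmul _ hσ _ hθ', fun x => ?_, fun x hx b hb => ?_⟩
      · obtain ⟨q, hq⟩ := hσx (θ' x)
        rw [AddMonoidHom.comp_apply, show σ (θ' x) - x = q • a + (θ' x - x) by rw [← hq]; abel]
        exact Submodule.add_mem _ (Submodule.smul_mem _ _ (Submodule.subset_span (Set.mem_insert _ _)))
          (Submodule.span_mono (Set.subset_insert _ _) (hsp x))
      · obtain ⟨q, hq⟩ := hσx (θ' x)
        rw [AddMonoidHom.comp_apply] at hx
        rw [hx] at hq
        have hu : θ' x - x = -q • a := by rw [neg_smul, ← hq]; abel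
        have hq0 : q = 0 := by
          by_contra hq0
          have hmem : -q • a ∈ Submodule.span ℤ (s : Set (Fin r → ℤ)) := hu ▸ hsp x
          have hd : Disjoint ({a} : Set (Fin r → ℤ)) (s : Set (Fin r → ℤ)) :=
            Set.disjoint_singleton_left.2 (by simpa using has)
          rw [Set.insert_eq] at hli
          have h0 := (Submodule.disjoint_def.1 ((linearIndepOn_id_union_iff hd).1 hli).2.2) (-q • a)
            (Submodule.smul_mem _ _ (Submodule.subset_span rfl)) hmem
          have ha0 : a ≠ 0 := ((linearIndepOn_id_union_iff hd).1 hli).1.ne_zero (Set.mem_singleton a)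
          exact hq0 (neg_eq_zero.1 ((smul_eq_zero.1 h0).resolve_right ha0))
        rw [hq0, neg_zero, zero_smul, sub_eq_zero] at hu
        rcases Finset.mem_insert.1 hb with rfl | hb
        · have h := hBinv σ hσ x b
          rw [hu] at hx
          rw [hx, hσa] at h
          have h' : B x (-b) = - B x b := (Bx x).map_neg b
          omega
        · exact hfix x hu b hb
  obtain ⟨s, hli, hmax⟩ := exists_maximal_linearIndepOn ℤ (Subtype.val : R → (Fin r → ℤ))
  have hfin : (Subtype.val '' s).Finite := (hli.id_image).linearIndependent.set_finite_of_isNoetherian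
  obtain ⟨θ, hθ, -, hfix⟩ := key hfin.toFinset (by rw [Set.Finite.coe_toFinset]; simp)
    (by rw [Set.Finite.coe_toFinset]; exact hli.id_image)
  refine ⟨θ, hθ, fun x hx => hBpos x ?_⟩
  have hzero : ∀ a ∈ R, Bx x a = 0 := by
    intro a ha
    by_cases has : (⟨a, ha⟩ : R) ∈ s
    · exact hfix x hx a (hfin.mem_toFinset.2 ⟨_, has, rfl⟩)
    · obtain ⟨q, hq, hmem⟩ := hmax _ has
      have h0 : ∀ z ∈ Submodule.span ℤ (Subtype.val '' s), Bx x z = 0 := by
        intro z hz
        induction hz using Submodule.span_induction with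
        | mem y hy => exact hfix x hx y (hfin.mem_toFinset.2 hy)
        | zero => exact map_zero _
        | add y z _ _ hy hz => rw [map_add, hy, hz, add_zero]
        | smul c y _ hy => rw [map_zsmul, hy, smul_zero]
      have := h0 _ hmem
      rw [map_zsmul, smul_eq_mul] at this
      exact (mul_eq_zero.1 this).resolve_left hq
  exact DFunLike.congr_fun (hspan (Bx x) hzero) x

/-- An endomorphism without fixed vectors divides a positive integer. -/
theorem exists_inverse_upTo (θ : (Fin r → ℤ) →+ (Fin r → ℤ)) (h : ∀ x, θ x = x → x = 0) :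
    ∃ (N : ℕ) (ψ : (Fin r → ℤ) →+ (Fin r → ℤ)), N ≠ 0 ∧
      (∀ x, ψ (θ x - x) = N • x) ∧ ∀ x, θ (ψ x) - ψ x = N • x := by
  classical
  let L : (Fin r → ℤ) →ₗ[ℤ] (Fin r → ℤ) := θ.toIntLinearMap - LinearMap.id
  let A := LinearMap.toMatrix' L
  have hA : ∀ x, A.mulVec x = θ x - x := fun x => by
    rw [← Matrix.toLin'_apply, Matrix.toLin'_toMatrix']
    rfl
  have hdet : A.det ≠ 0 := by
    intro h0
    obtain ⟨v, hv, hAv⟩ := Matrix.exists_mulVec_eq_zero_iff.2 h0
    exact hv (h v (sub_eq_zero.1 ((hA v).symm.trans hAv)))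
  let d := A.det
  let P := d • A.adjugate
  have hN : ((d * d).toNat : ℤ) = d * d := Int.toNat_of_nonneg (mul_self_nonneg d)
  refine ⟨(d * d).toNat, (Matrix.toLin' P).toAddMonoidHom, fun e => ?_, fun x => ?_, fun x => ?_⟩
  · rw [e] at hN
    exact hdet (mul_self_eq_zero.1 hN.symm)
  · show Matrix.toLin' P (θ x - x) = _
    rw [← hA, Matrix.toLin'_apply, Matrix.mulVec_mulVec, Matrix.smul_mul, Matrix.adjugate_mul, smul_smul,
      Matrix.smul_mulVec, Matrix.one_mulVec, ← natCast_zsmul, hN]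
  · show θ (Matrix.toLin' P x) - Matrix.toLin' P x = _
    rw [← hA, Matrix.toLin'_apply, Matrix.mulVec_mulVec, Matrix.mul_smul, Matrix.mul_adjugate, smul_smul,
      Matrix.smul_mulVec, Matrix.one_mulVec, ← natCast_zsmul, hN]

variable {K : Type u} [Field K]

/-- Fixed characters have finite order. -/
theorem pow_eq_one_of_fixed (θ : (Fin r → ℤ) →+ (Fin r → ℤ)) {N : ℕ} {ψ : (Fin r → ℤ) →+ (Fin r → ℤ)}
    (hψ : ∀ x, θ (ψ x) - ψ x = N • x) (c : (Fin r → ℤ) →+ Additive Kˣ) (hc : ∀ x, c (θ x) = c x) : N • c = 0 := by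
  refine AddMonoidHom.ext fun x => ?_
  rw [AddMonoidHom.nsmul_apply, ← map_nsmul, ← hψ, map_sub, hc, sub_self, AddMonoidHom.zero_apply]

/-- Solving `χ ∘ θ - χ = c` for characters. -/
theorem exists_solution [IsAlgClosed K] (θ : (Fin r → ℤ) →+ (Fin r → ℤ)) {N : ℕ} (hN : N ≠ 0)
    {ψ : (Fin r → ℤ) →+ (Fin r → ℤ)} (hψ : ∀ x, ψ (θ x - x) = N • x) (c : (Fin r → ℤ) →+ Additive Kˣ) :
    ∃ χ : (Fin r → ℤ) →+ Additive Kˣ, (∀ x, χ (θ x) - χ x = c x) ∧ ∀ m : ℕ, m • c = 0 → (m * N) • χ = 0 := by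
  classical
  have hroot : ∀ v : Additive Kˣ, ∃ z : Additive Kˣ, N • z = v := by
    intro v
    obtain ⟨z, hz⟩ := IsAlgClosed.exists_pow_nat_eq ((v.toMul : Kˣ) : K) (Nat.pos_of_ne_zero hN)
    have hz0 : z ≠ 0 := fun e => (v.toMul).ne_zero (by rw [← hz, e, zero_pow hN])
    exact ⟨Additive.ofMul (Units.mk0 z hz0), congrArg Additive.ofMul (Units.ext (by simp [hz]) :
      (Units.mk0 z hz0) ^ N = v.toMul)⟩
  choose z hz using hroot
  let c' : (Fin r → ℤ) →+ Additive Kˣ :=
    ((Pi.basisFun ℤ (Fin r)).constr ℕ fun i => z (c (Pi.single i 1))).toAddMonoidHom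
  have hc' : N • c' = c := by
    have h : (N • c').toIntLinearMap = c.toIntLinearMap := (Pi.basisFun ℤ (Fin r)).ext fun i => by
      show N • c' ((Pi.basisFun ℤ (Fin r)) i) = c ((Pi.basisFun ℤ (Fin r)) i)
      rw [Pi.basisFun_apply]
      show N • (Pi.basisFun ℤ (Fin r)).constr ℕ _ (Pi.single i 1) = _
      rw [← Pi.basisFun_apply ℤ (Fin r) i, Module.Basis.constr_basis, hz, Pi.basisFun_apply]
    exact AddMonoidHom.ext fun x => LinearMap.congr_fun h x
  refine ⟨c'.comp ψ, fun x => ?_, fun m hm => AddMonoidHom.ext fun x => ?_⟩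
  · rw [AddMonoidHom.comp_apply, AddMonoidHom.comp_apply, ← map_sub c', ← map_sub ψ, hψ, map_nsmul]
    exact DFunLike.congr_fun hc' x
  · rw [AddMonoidHom.nsmul_apply, mul_nsmul', AddMonoidHom.comp_apply]
    have h1 : N • c' (ψ x) = c (ψ x) := DFunLike.congr_fun hc' (ψ x)
    rw [h1]
    exact DFunLike.congr_fun hm (ψ x)

end Groth.L06.CoxeterElt
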