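import Groth.Agent.L06.CoxeterElt.Reflect
import Groth.Agent.L08.Borel.GenNilp
import Groth.Agent.L14.RedLR.Over
import Groth.Agent.L14.HMProj.UniqueLift

/-!
# A central point of a semisimple group as a commutator of points of finite order
-/

set_option autoImplicit false
set_option linter.unusedSectionVars false
set_option linter.style.haveILetI false
set_option backward.isDefEq.respectTransparency.types false
set_option maxHeartbeats 1000000

universe u

open CategoryTheory CategoryTheory.Limits MonoidalCategory CartesianMonoidalCategory MonObj GrpObj AlgebraicGeometry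
open WithConv
open Groth.L25.Bridge (P)
open Groth.L08.TorusQuot (sp sp_comp exists_sp toPt ofPt toPt_ofPt SP)
open Groth.L08.Borel

noncomputable section

namespace Groth.L06.CoxeterElt

variable {k : Type u} [Field k] [IsAlgClosed k] {r : ℕ}

local notation "U1" => 𝟙_ (Over (Spec (CommRingCat.of k)))

/-- the point of a character with values in units -/
def uPt (χ : (Fin r → ℤ) →+ Additive kˣ) : U1 ⟶ TT k r :=
  chPt k ((Units.coeHom k).comp (AddMonoidHom.toMultiplicativeLeft χ))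

theorem uPt_add (χ χ' : (Fin r → ℤ) →+ Additive kˣ) : uPt (χ + χ') = uPt χ * uPt χ' := by
  rw [uPt, uPt, uPt, ← chPt_mul]
  congr 1

theorem uPt_zero : uPt (0 : (Fin r → ℤ) →+ Additive kˣ) = 1 := by
  rw [uPt, ← chPt_one]
  congr 1

theorem uPt_nsmul (χ : (Fin r → ℤ) →+ Additive kˣ) (n : ℕ) : uPt (n • χ) = uPt χ ^ n := by
  induction n with
  | zero =>
    rw [pow_zero, ← uPt_zero]
    exact congrArg uPt (zero_nsmul χ)
  | succ n ih =>
    rw [pow_succ, ← ih, ← uPt_add]
    exact congrArg uPt (succ_nsmul χ n)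

theorem uPt_dP (χ : (Fin r → ℤ) →+ Additive kˣ) (p : (Fin r → ℤ) →+ (Fin r → ℤ)) :
    uPt χ ≫ dP k p = uPt (χ.comp p) := by
  rw [uPt, uPt, chPt_dP]
  rfl

theorem uPt_injective {χ χ' : (Fin r → ℤ) →+ Additive kˣ} (h : uPt χ = uPt χ') : χ = χ' := by
  refine AddMonoidHom.ext fun x => ?_
  have h1 := DFunLike.congr_fun (chPt_injective k h) (Multiplicative.ofAdd x)
  exact Units.ext h1

theorem uPt_surjective (t : U1 ⟶ TT k r) : ∃ χ, uPt χ = t := by
  obtain ⟨χ, rfl⟩ := chPt_surjective k t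
  refine ⟨AddMonoidHom.toMultiplicativeLeft.symm χ.toHomUnits, ?_⟩
  exact congrArg (chPt k) (MonoidHom.ext fun x => rfl)

variable [CharZero k] {G : Over (Spec (CommRingCat.of k))} [GrpObj G] {A : Type u} [CommRing A] [HopfAlgebra k A]

/-- a nonzero functional is nonzero on a weight of the cotangent space -/
theorem exists_weight_semisimple [IsDomain A] [IsNoetherianRing A] (hG : Red.IsSemisimpleOver k G)
    {iT : TT k r ⟶ G} (hT : AGF.IsMaxTorus iT) (jG : G ⟶ P k A) [IsMonHom jG] [IsIso jG] {φ : A →ₐc[k] TB k r}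
    (hφ : sp φ = iT ≫ jG) {f : (Fin r → ℤ) →+ ℤ} (hf : f ≠ 0) :
    ∃ (a : Fin r → ℤ) (y : A), f a ≠ 0 ∧ piece φ a y ∉ aug k A ^ 2 := by
  by_contra hcon
  haveI := hG.1.1; haveI := hG.1.2.1; haveI := hG.1.2.2.1
  haveI := hT.1; haveI := hT.2.1
  have hzero : ∀ m x, f m ≠ 0 → piece φ m x = 0 := fun m x hm => by_contra fun hx => hcon (exists_weight φ f hm hx)
  obtain ⟨d, hd⟩ := Int.subgroup_cyclic f.range
  rw [← AddSubgroup.zmultiples_eq_closure] at hd
  have hdvd : ∀ x, d ∣ f x := fun x => by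
    have : f x ∈ f.range := ⟨x, rfl⟩
    rw [hd, AddSubgroup.mem_zmultiples_iff] at this
    obtain ⟨q, hq⟩ := this
    exact ⟨q, by rw [← hq, smul_eq_mul, mul_comm]⟩
  have hd0 : d ≠ 0 := fun e => hf (AddMonoidHom.ext fun x => by
    obtain ⟨q, hq⟩ := hdvd x
    rw [hq, e, zero_mul]; rfl)
  obtain ⟨x₀, hx₀⟩ : d ∈ f.range := by rw [hd]; exact AddSubgroup.mem_zmultiples d
  let f₁ : (Fin r → ℤ) →+ ℤ := AddMonoidHom.mk' (fun x => f x / d) fun x y => by
    rw [map_add, Int.add_ediv_of_dvd_left (hdvd x)]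
  let p : (Fin r → ℤ) →+ (Fin 1 → ℤ) := AddMonoidHom.mk' (fun x _ => f₁ x) fun x y => funext fun _ => map_add f₁ x y
  have hp : Function.Surjective p := fun g => ⟨g 0 • x₀, funext fun i => by
    show f (g 0 • x₀) / d = g i
    rw [map_zsmul, hx₀, smul_eq_mul, Int.mul_ediv_cancel _ hd0, Fin.fin_one_eq_zero i]⟩
  haveI := isClosedImmersion_dP k p hp
  haveI : IsAffineHom G.hom := isAffineHom_of_isAffine _
  haveI : LocallyOfFiniteType G.hom := inferInstance
  haveI : QuasiCompact G.hom := quasiCompact_of_compactSpace _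
  haveI : IsClosedImmersion iT.left :=
    Groth.L25.Locus.isClosedImmersion_of_mono
      (Groth.L25.Locus.locally_of_multTypeFT (Groth.L25.Locus.isMultTypeFT_of_isTorus hT.2.2.1)) iT
  haveI : IsClosedImmersion (dP k p ≫ iT).left := inferInstanceAs (IsClosedImmersion ((dP k p).left ≫ iT.left))
  haveI : IsMonHom (dP k p ≫ iT) := inferInstance
  have hcom : Groth.L25.Dyn.TorCommutes ((md k p).comp φ) (AlgHom.id k A) :=
    torCommutes_of_pieces φ p _ fun i b hi => hzero i b fun e => hi (funext fun _ => by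
      show f i / d = 0
      rw [e, Int.zero_ediv])
  have hnorm : AlgGrp.IsNormalHom (dP k p ≫ iT) := fun X g s => ⟨s, by
    have h := commute_of_torCommutes φ p hcom (g ≫ jG) s
    rw [mul_inv_eq_iff_eq_mul, ← cancel_mono jG]
    simp only [MonObj.mul_comp, Category.assoc, ← hφ]
    have e : toPt (toConv (AlgHom.id k A)) = 𝟙 (P k A) := Over.OverMorphism.ext (Spec.map_id _)
    rw [e, Category.comp_id] at h
    exact h⟩
  have h1 := Groth.L14.Luna.id_eq_one_of_isTrivialGrp
    (hG.2 (TT k 1) (dP k p ≫ iT) inferInstance hnorm (isTorus_TT k 1))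
  let two : kˣ := Units.mk0 2 two_ne_zero
  let χ : (Fin 1 → ℤ) →+ Additive kˣ :=
    AddMonoidHom.mk' (fun x => x 0 • Additive.ofMul two) fun x y => add_zsmul _ _ _
  have h2 : uPt χ = uPt (0 : (Fin 1 → ℤ) →+ Additive kˣ) := by
    rw [uPt_zero, ← Category.comp_id (uPt χ), h1, MonObj.comp_one]
  have h3 := DFunLike.congr_fun (uPt_injective h2) (fun _ => 1)
  have h4 : (two : k) = 1 := congrArg (fun u : Additive kˣ => ((u.toMul : kˣ) : k)) ((one_smul ℤ _).symm.trans h3)
  exact (by norm_num : (2 : k) ≠ 1) h4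

/-- every central point is a commutator of points of finite order -/
theorem exists_commutator (hG : Red.IsSemisimpleOver k G) (c : U1 ⟶ G) (hc : c ∈ Subgroup.center (U1 ⟶ G)) :
    ∃ a b : U1 ⟶ G, IsOfFinOrder a ∧ IsOfFinOrder b ∧ c = a * b * a⁻¹ * b⁻¹ := by
  haveI := hG.1.1; haveI := hG.1.2.1; haveI := hG.1.2.2.1
  haveI : QuasiCompact G.hom := quasiCompact_of_compactSpace _
  obtain ⟨T, gT, i₀, hT₀⟩ := exists_maxTorus_gen G
  obtain ⟨r, e, he, he'⟩ := exists_iso_TT k hT₀.2.2.1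
  haveI := hT₀.1; haveI := hT₀.2.1
  let iT : TT k r ⟶ G := e.inv ≫ i₀
  have hT : AGF.IsMaxTorus iT := ⟨inferInstance, inferInstance, isTorus_TT k r, fun T' _ j _ _ f hT' hf => by
    haveI := hT₀.2.2.2 T' j (e.hom ≫ f) hT' (by rw [Category.assoc, hf, Iso.hom_inv_id_assoc])
    exact IsIso.of_isIso_comp_left e.hom f⟩
  haveI := hT.1; haveI := hT.2.1
  obtain ⟨A, _, _, ⟨eG⟩⟩ := Groth.L25.Bridge.exists_hopf G
  let jG : G ⟶ P k A := eG.hom.hom.hom
  haveI : IsMonHom jG := eG.hom.hom.isMonHom_hom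
  haveI : IsIso jG := ⟨eG.inv.hom.hom, congrArg (fun f => f.hom.hom) eG.hom_inv_id,
    congrArg (fun f => f.hom.hom) eG.inv_hom_id⟩
  haveI : IsIso jG.left := inferInstanceAs (IsIso ((Over.forget _).map jG))
  have hsm : Smooth (P k A).hom := by
    rw [← Over.w (inv jG)]
    haveI : IsIso (inv jG).left := inferInstanceAs (IsIso ((Over.forget _).map (inv jG)))
    infer_instance
  haveI : Algebra.FiniteType k A := Groth.L14.RedLR.finiteType_of_smooth hsm
  haveI : ConnectedSpace ↥(Spec (CommRingCat.of A)) :=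
    jG.left.surjective.connectedSpace jG.left.continuous
  haveI : IsDomain A := Groth.L14.RedLR.isDomain_of_connected (K := k)
  haveI : IsNoetherianRing A := Algebra.FiniteType.isNoetherianRing k A
  obtain ⟨φ, hφ⟩ := exists_sp (iT ≫ jG)
  obtain ⟨B, B', gB, gB', iB, iB', u, u', -, hB, -, hu, -, -, -⟩ := Groth.L14.Luna.exists_general_position hT
  have hfin := weyl_finite hT hB hu
  -- an element of the Weyl group without fixed characters
  let R : Set (Fin r → ℤ) := {a₀ | ∃ θ ∈ weyl iT, θ a₀ = -a₀ ∧ ∀ x, ∃ q : ℤ, θ x - x = q • a₀}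
  obtain ⟨θ, ⟨n, hn⟩, hθ⟩ := exists_fixedPointFree (weyl iT) hfin id_mem_weyl
    (fun _ h _ h' => comp_mem_weyl h h') (fun _ h => weyl_injective hT h) R (fun _ h => h) fun f hf => by
      by_contra hf0
      obtain ⟨a, y, hfa, hy⟩ := exists_weight_semisimple hG hT jG hφ hf0
      obtain ⟨a₀, ha₀, hR⟩ := exists_reflection hG.1 hT hfin jG hφ (fun e => hfa (by rw [e, map_zero])) hy
      exact hfa (ha₀ f (hf a₀ hR))
  obtain ⟨N, ψ, hN, hψ, hψ'⟩ := exists_inverse_upTo θ hθ
  have hconj : ∀ χ : (Fin r → ℤ) →+ Additive kˣ, n * (uPt χ ≫ iT) * n⁻¹ = uPt (χ.comp θ) ≫ iT := fun χ => by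
    rw [← Groth.L14.Luna.pt_conjBy, hn, ← Category.assoc, uPt_dP]
  have hfixed : ∀ χ : (Fin r → ℤ) →+ Additive kˣ, Commute n (uPt χ ≫ iT) → N • χ = 0 := fun χ h =>
    pow_eq_one_of_fixed θ hψ' χ fun x => by
      have e1 := hconj χ
      rw [h.eq, mul_inv_cancel_right] at e1
      exact (DFunLike.congr_fun (uPt_injective ((cancel_mono iT).1 e1)) x).symm
  have hord : ∀ (χ : (Fin r → ℤ) →+ Additive kˣ) (m : ℕ), m • χ = 0 → (uPt χ ≫ iT) ^ m = 1 := fun χ m h => by
    have e1 : uPt χ ^ m = 1 := by rw [← uPt_nsmul, h, uPt_zero]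
    rw [← MonObj.one_comp (f := iT), ← e1]
    exact (map_pow (MonoidHom.mk' (fun x : U1 ⟶ TT k r => x ≫ iT) fun x y => MonObj.mul_comp x y iT) (uPt χ) m).symm
  -- the central point lies in the torus
  have hcT : AGF.conjBy c iT = iT := by
    haveI : IsReduced (TT k r).left := by
      haveI := (torus_props hT.2.2.1).2.1
      exact Groth.Agent.AV.isReduced_of_smooth_field (TT k r).hom
    haveI : LocallyOfFiniteType (TT k r).hom := by
      haveI := (torus_props hT.2.2.1).2.1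
      infer_instance
    refine Groth.L14.HMProj.ext_of_pts fun x => ?_
    rw [Groth.L14.Luna.pt_conjBy, ← Subgroup.mem_center_iff.1 hc, mul_inv_cancel_right]
  obtain ⟨t, ht⟩ := exists_lift_of_centralizes hG.1 hT hcT
  obtain ⟨χc, rfl⟩ := uPt_surjective t
  have hNc : N • χc = 0 := hfixed χc (by
    rw [ht]; exact (Subgroup.mem_center_iff.1 hc n))
  obtain ⟨χ, hχ, hχN⟩ := exists_solution θ hN hψ χc
  refine ⟨n, uPt χ ≫ iT, ?_, isOfFinOrder_iff_pow_eq_one.2 ⟨N * N, Nat.pos_of_ne_zero (mul_ne_zero hN hN),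
    hord χ _ (hχN N hNc)⟩, ?_⟩
  · -- the Weyl element has finite order
    choose θm hm hmx using fun m : ℕ => acts_pow hn m
    obtain ⟨i, j, hij, he2⟩ := hfin.exists_lt_map_eq_of_forall_mem (f := θm)
      fun m => (⟨_, hm m⟩ : θm m ∈ weyl iT)
    obtain ⟨ψi, -, -, hψi, hinvi, -⟩ := exists_inv hT (hm i)
    have hL : Acts iT (n ^ (j - i)) (AddMonoidHom.id _) := by
      have h1 := acts_mul hψi (hm j)
      rw [← he2] at h1
      obtain ⟨ψ2, -, -, hψ2, h2a, h2b⟩ := exists_inv hT (hm i)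
      have e2 : (n ^ i)⁻¹ * n ^ j = n ^ (j - i) := by
        rw [inv_mul_eq_iff_eq_mul, ← pow_add, Nat.add_sub_cancel' hij.le]
      have e3 : (θm i).comp ψi = AddMonoidHom.id _ := by
        refine AddMonoidHom.ext fun x => weyl_injective hT ⟨_, hψi⟩ ?_
        exact DFunLike.congr_fun hinvi (ψi x)
      rwa [e2, e3] at h1
    obtain ⟨s, hs⟩ := exists_lift_of_centralizes hG.1 hT (z := n ^ (j - i)) (by
      rw [hL, dP_id, Category.id_comp])
    obtain ⟨χ₀, rfl⟩ := uPt_surjective s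
    refine isOfFinOrder_iff_pow_eq_one.2 ⟨(j - i) * N,
      Nat.pos_of_ne_zero (mul_ne_zero (Nat.sub_ne_zero_of_lt hij) hN), ?_⟩
    rw [pow_mul, ← hs]
    exact hord χ₀ N (hfixed χ₀ (by rw [hs]; exact Commute.self_pow n _))
  · rw [← ht, hconj, eq_mul_inv_iff_mul_eq, ← MonObj.mul_comp, ← uPt_add]
    congr 2
    exact AddMonoidHom.ext fun x => by
      rw [AddMonoidHom.add_apply, AddMonoidHom.comp_apply, ← hχ, sub_add_cancel]

end Groth.L06.CoxeterElt
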