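import Groth.Agent.L06.CoxeterElt.Torus
import Groth.Agent.L08.Borel.Weyl
import Groth.Agent.L08.Borel.BorelNorm
import Groth.Agent.L14.Luna.Cartan

/-!
# The Weyl group as automorphisms of the character lattice
-/

set_option autoImplicit false
set_option linter.unusedSectionVars false
set_option linter.style.haveILetI false
set_option backward.isDefEq.respectTransparency.types false

universe u

open CategoryTheory CategoryTheory.Limits MonoidalCategory CartesianMonoidalCategory MonObj GrpObj AlgebraicGeometry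
open Groth.L08.Borel

noncomputable section

namespace Groth.L06.CoxeterElt

variable {k : Type u} [Field k] [IsAlgClosed k] {G : Over (Spec (CommRingCat.of k))} [GrpObj G] {r : ℕ}

local notation "U1" => 𝟙_ (Over (Spec (CommRingCat.of k)))

/-- a point acts on the torus through an endomorphism of characters -/
def Acts (iT : TT k r ⟶ G) (n : U1 ⟶ G) (θ : (Fin r → ℤ) →+ (Fin r → ℤ)) : Prop :=
  AGF.conjBy n iT = dP k θ ≫ iT

/-- the endomorphisms induced by the normalizer of the torus -/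
def weyl (iT : TT k r ⟶ G) : Set ((Fin r → ℤ) →+ (Fin r → ℤ)) := {θ | ∃ n, Acts iT n θ}

variable {iT : TT k r ⟶ G}

theorem acts_one : Acts iT 1 (AddMonoidHom.id _) := by
  rw [Acts, conjBy_one, dP_id, Category.id_comp]

theorem acts_mul {n n' : U1 ⟶ G} {θ θ' : (Fin r → ℤ) →+ (Fin r → ℤ)} (h : Acts iT n θ) (h' : Acts iT n' θ') :
    Acts iT (n * n') (θ'.comp θ) := by
  rw [Acts] at *
  rw [← conjBy_conjBy, h', ← comp_conjBy, h, ← Category.assoc, dP_comp]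

theorem id_mem_weyl : AddMonoidHom.id _ ∈ weyl iT := ⟨1, acts_one⟩

theorem comp_mem_weyl {θ θ' : (Fin r → ℤ) →+ (Fin r → ℤ)} (h : θ ∈ weyl iT) (h' : θ' ∈ weyl iT) :
    θ.comp θ' ∈ weyl iT := by
  obtain ⟨n, hn⟩ := h
  obtain ⟨n', hn'⟩ := h'
  exact ⟨n' * n, acts_mul hn' hn⟩

theorem acts_pow {n : U1 ⟶ G} {θ : (Fin r → ℤ) →+ (Fin r → ℤ)} (h : Acts iT n θ) :
    ∀ m : ℕ, ∃ θₘ, Acts iT (n ^ m) θₘ ∧ ∀ x, θₘ x = θ^[m] x
  | 0 => ⟨AddMonoidHom.id _, by rw [pow_zero]; exact acts_one, fun x => rfl⟩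
  | m + 1 => by
    obtain ⟨θₘ, hm, hx⟩ := acts_pow h m
    exact ⟨θ.comp θₘ, by rw [pow_succ]; exact acts_mul hm h, fun x => by
      rw [AddMonoidHom.comp_apply, hx, ← Function.iterate_succ_apply' θ]⟩

theorem acts_unique [Mono iT] {n : U1 ⟶ G} {θ θ' : (Fin r → ℤ) →+ (Fin r → ℤ)} (h : Acts iT n θ)
    (h' : Acts iT n θ') : θ = θ' :=
  dP_injective k ((cancel_mono iT).1 (h.symm.trans h'))

/-- an action is invertible -/
theorem exists_inv (hT : AGF.IsMaxTorus iT) {n : U1 ⟶ G} {θ : (Fin r → ℤ) →+ (Fin r → ℤ)} (h : Acts iT n θ) :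
    ∃ (θ' : (Fin r → ℤ) →+ (Fin r → ℤ)) (τ : TT k r ≅ TT k r), τ.hom = dP k θ ∧ Acts iT n⁻¹ θ' ∧
      θ'.comp θ = AddMonoidHom.id _ ∧ θ.comp θ' = AddMonoidHom.id _ := by
  haveI := hT.1; haveI := hT.2.1
  haveI := isMonHom_conjBy n⁻¹ iT
  haveI := mono_conjBy n⁻¹ iT
  haveI : IsIso (dP k θ) := hT.2.2.2 (TT k r) (AGF.conjBy n⁻¹ iT) (dP k θ) hT.2.2.1 (by
    rw [comp_conjBy, ← h, conjBy_conjBy, inv_mul_cancel, conjBy_one])
  haveI : IsMonHom (CategoryTheory.inv (dP k θ)) := inferInstanceAs (IsMonHom (asIso (dP k θ)).inv)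
  obtain ⟨θ', hθ'⟩ := exists_dP k (CategoryTheory.inv (dP k θ))
  refine ⟨θ', asIso (dP k θ), rfl, ?_, ?_, ?_⟩
  · rw [Acts, ← hθ', IsIso.eq_inv_comp, comp_conjBy, ← h, conjBy_conjBy, inv_mul_cancel, conjBy_one]
  · refine dP_injective k ?_
    rw [← dP_comp, ← hθ', IsIso.inv_hom_id, dP_id]
  · refine dP_injective k ?_
    rw [← dP_comp, ← hθ', IsIso.hom_inv_id, dP_id]

theorem weyl_injective (hT : AGF.IsMaxTorus iT) {θ : (Fin r → ℤ) →+ (Fin r → ℤ)} (h : θ ∈ weyl iT) :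
    Function.Injective θ := by
  obtain ⟨n, hn⟩ := h
  obtain ⟨θ', -, -, -, h1, -⟩ := exists_inv hT hn
  intro x y e
  have := congrArg θ' e
  rwa [← AddMonoidHom.comp_apply, ← AddMonoidHom.comp_apply, h1] at this

theorem exists_acts [IsMonHom iT] [Mono iT] {n : U1 ⟶ G} {τ : TT k r ⟶ TT k r} (hτ : τ ≫ iT = AGF.conjBy n iT) :
    ∃ θ, Acts iT n θ := by
  haveI := isMonHom_conjBy n iT
  haveI : IsMonHom τ := isMonHom_of_comp_mono τ iT _ hτ
  obtain ⟨θ, hθ⟩ := exists_dP k τ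
  exact ⟨θ, by rw [Acts, ← hτ, hθ]⟩

variable [IsAffine G.left] [Smooth G.hom] [ConnectedSpace G.left]

theorem weyl_finite (hT : AGF.IsMaxTorus iT) {B : Over (Spec (CommRingCat.of k))} [GrpObj B] {iB : B ⟶ G}
    (hB : Red.IsBorelOver k iB) {t : TT k r ⟶ B} (ht : t ≫ iB = iT) : (weyl iT).Finite := by
  classical
  haveI := hT.1; haveI := hT.2.1; haveI := hB.1; haveI := hB.2.1
  haveI : Mono iB := Groth.L08.mono_of_closedImmersion iB
  let num : ((Fin r → ℤ) →+ (Fin r → ℤ)) → (U1 ⟶ G) := fun θ => if h : θ ∈ weyl iT then h.choose else 1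
  have hnum : ∀ θ ∈ weyl iT, Acts iT (num θ) θ := fun θ h => by
    simp only [num, dif_pos h]; exact h.choose_spec
  let F : ((Fin r → ℤ) →+ (Fin r → ℤ)) → Subobject G := fun θ =>
    haveI := mono_conjBy (num θ) iB
    Subobject.mk (AGF.conjBy (num θ) iB)
  refine Set.Finite.of_finite_image ((finite_borels hT).subset ?_) (f := F) ?_
  · rintro _ ⟨θ, hθ, rfl⟩
    obtain ⟨θ', τ, hτ, -, -, -⟩ := exists_inv hT (hnum θ hθ)
    refine ⟨B, _, AGF.conjBy (num θ) iB, mono_conjBy _ _, isBorelOver_conjBy hB _, ⟨τ.inv ≫ t, ?_⟩, rfl⟩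
    rw [Category.assoc, comp_conjBy, ht, Iso.inv_comp_eq, hτ, hnum θ hθ]
  · intro θ hθ θ' hθ' e
    haveI := mono_conjBy (num θ) iB
    haveI := mono_conjBy (num θ') iB
    let σ : B ≅ B := Subobject.isoOfMkEqMk _ _ e.symm
    have hσ : σ.hom ≫ AGF.conjBy (num θ) iB = AGF.conjBy (num θ') iB := Subobject.ofMkLEMk_comp _
    have hσ' : σ.hom ≫ iB = AGF.conjBy ((num θ)⁻¹ * num θ') iB := by
      rw [← conjBy_conjBy, ← hσ, ← comp_conjBy, conjBy_conjBy, inv_mul_cancel, conjBy_one]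
    obtain ⟨ψ, -, -, hψ, -, hid⟩ := exists_inv hT (hnum θ hθ)
    have hm := acts_mul hψ (hnum θ' hθ')
    obtain ⟨-, τ, hτ, -, -, -⟩ := exists_inv hT hm
    have h1 := centralizes_of_normalizes hT hB t ht _ τ (by rw [hτ]; exact hm.symm) σ hσ'
    have h2 : θ'.comp ψ = AddMonoidHom.id _ := acts_unique hm (by rw [Acts, h1, dP_id, Category.id_comp])
    refine AddMonoidHom.ext fun x => ?_
    obtain ⟨φ, -, -, -, -, h4⟩ := exists_inv hT hψ
    have h3 : ∀ y, θ (ψ y) = y := fun y => DFunLike.congr_fun hid y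
    obtain ⟨y, rfl⟩ : ∃ y, ψ y = x := ⟨φ x, DFunLike.congr_fun h4 x⟩
    rw [h3]
    exact (DFunLike.congr_fun h2 y).symm

/-- the maximal torus of a reductive group is its own centralizer -/
theorem exists_lift_of_centralizes {T : Over (Spec (CommRingCat.of k))} [GrpObj T] (hG : Red.IsReductiveOver k G)
    {i : T ⟶ G} (hT : AGF.IsMaxTorus i) {z : U1 ⟶ G} (hz : AGF.conjBy z i = i) :
    ∃ t : U1 ⟶ T, t ≫ i = z := by
  haveI := hT.1; haveI := hT.2.1
  obtain ⟨Z, gZ, c, hc⟩ := exists_centralizer_torus i hT.2.2.1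
  obtain ⟨-, -, -, -, ⟨tz, htz⟩, -⟩ := centralizer_props hT.2.2.1 hc
  haveI := Groth.L14.Luna.isIso_of_centralizer_maxTorus hG hT hc tz htz
  obtain ⟨w, hw⟩ := (hc.2.2 U1 z).2 fun X x h => by
    have h1 := congrArg (h ≫ ·) hz
    simp only [AGF.conjBy, MonObj.comp_mul, GrpObj.comp_inv, ← Category.assoc] at h1
    rw [toUnit_unique (h ≫ toUnit T) x] at h1
    rw [mul_inv_eq_iff_eq_mul] at h1
    exact h1
  exact ⟨w ≫ inv tz, by rw [Category.assoc, ← htz, IsIso.inv_hom_id_assoc, hw]⟩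

end Groth.L06.CoxeterElt
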