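import Groth.Agent.L06.CoxeterElt.Comm
import Groth.Agent.L06.CoxeterElt.Weyl
import Groth.Agent.L06.CoxeterElt.Lattice
import Groth.Agent.L14.Luna.GenPos
import Groth.Agent.L14.Luna.CentRed
import Groth.Agent.L14.Luna.Radical
import Groth.Agent.L14.Luna.SemiRank.Lattice
import Groth.Agent.L08.Borel.Dominant

/-!
# Reflections in the Weyl group attached to weights of the cotangent space
-/

set_option autoImplicit false
set_option linter.unusedSectionVars false
set_option linter.style.haveILetI false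
set_option backward.isDefEq.respectTransparency.types false
set_option maxHeartbeats 1000000

universe u

open CategoryTheory CategoryTheory.Limits MonoidalCategory CartesianMonoidalCategory MonObj GrpObj AlgebraicGeometry
open WithConv
open Groth.L25.Bridge (P)
open Groth.L08.TorusQuot (sp sp_comp spA toPt ofPt SP)
open Groth.L08.Borel

noncomputable section

namespace Groth.L06.CoxeterElt

variable {k : Type u} [Field k] [IsAlgClosed k]

local notation "U1" => 𝟙_ (Over (Spec (CommRingCat.of k)))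

/-- a reductive solvable group is a torus -/
theorem isTorus_of_solvable {C : Over (Spec (CommRingCat.of k))} [GrpObj C] (hC : Red.IsReductiveOver k C)
    (hs : Red.IsSolvableGrp C) : Red.IsTorus C := by
  haveI := hC.1; haveI := hC.2.1; haveI := hC.2.2.1
  obtain ⟨T, gT, iT, p, V, gV, v, hm, hmono, hT, hp, hip, hV, -, hker⟩ :=
    Groth.L14.Luna.exists_retraction_radical C hs
  haveI := hm; haveI := hmono; haveI := hp
  obtain ⟨hvm, hvc, hvn, hVs, hVc, hVns⟩ := Groth.L14.Luna.unipotentRadical_data hV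
  haveI := hvm
  have hv1 : 𝟙 V = 1 := Groth.L14.Luna.id_eq_one_of_isTrivialGrp (hC.2.2.2 V v hvc hVs hVc hvn hVns)
  have hid : p ≫ iT = 𝟙 C := by
    have h0 : ((p ≫ iT) * (𝟙 C)⁻¹) ≫ p = 1 := by
      rw [MonObj.mul_comp, GrpObj.inv_comp, Category.assoc, hip, Category.comp_id, Category.id_comp, mul_inv_cancel]
    obtain ⟨y, hy⟩ := hker C _ h0
    rw [← Category.comp_id y, hv1, MonObj.comp_one, MonObj.one_comp] at hy
    exact mul_inv_eq_one.1 hy.symm
  haveI : IsMonHom (⟨iT, p, hip, hid⟩ : T ≅ C).hom := hm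
  exact Groth.L25.TorLift.isTorus_of_iso (Grp.mkIso' (⟨iT, p, hip, hid⟩ : T ≅ C)) hT

/-- two Borel subgroups in general position are different unless the group is solvable -/
theorem exists_two_borels {C T : Over (Spec (CommRingCat.of k))} [GrpObj C] [GrpObj T] (hC : Red.IsReductiveOver k C)
    {t : T ⟶ C} (ht : AGF.IsMaxTorus t) (hne : ¬ IsIso t) :
    ∃ (B B' : Over (Spec (CommRingCat.of k))) (_ : GrpObj B) (_ : GrpObj B') (iB : B ⟶ C) (iB' : B' ⟶ C)
      (u : T ⟶ B) (u' : T ⟶ B'), Red.IsBorelOver k iB ∧ Red.IsBorelOver k iB' ∧ u ≫ iB = t ∧ u' ≫ iB' = t ∧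
      ¬ ∃ f : B ≅ B', f.hom ≫ iB' = iB := by
  haveI := hC.1; haveI := hC.2.1; haveI := hC.2.2.1; haveI := ht.1; haveI := ht.2.1
  obtain ⟨B, B', gB, gB', iB, iB', u, u', O, hB, hB', hu, hu', hO, hOB⟩ :=
    Groth.L14.Luna.exists_general_position ht
  refine ⟨B, B', gB, gB', iB, iB', u, u', hB, hB', hu, hu', ?_⟩
  rintro ⟨f, hf⟩
  haveI := hB.1; haveI := hB.2.1; haveI := hB'.1; haveI := hB'.2.1
  haveI : LocallyOfFiniteType C.hom := inferInstance
  haveI : IsLocallyNoetherian C.left := LocallyOfFiniteType.isLocallyNoetherian C.hom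
  haveI : IrreducibleSpace C.left := Groth.L25.Component.irreducibleSpace C
  haveI : IsReduced C.left := Groth.Agent.AV.isReduced_of_smooth_field C.hom
  -- points of the open set lie in the Borel subgroup
  have hpts : ∀ x : U1 ⟶ C, ptOf x ∈ O → ∃ b : U1 ⟶ B, b ≫ iB = x := fun x hx => by
    obtain ⟨b', b, rfl⟩ := hOB x hx
    refine ⟨(b' ≫ f.inv) * b, ?_⟩
    rw [MonObj.mul_comp, Category.assoc, ← hf, Iso.inv_hom_id_assoc]
  have hr : Set.range iB.left = Set.univ := by
    have hcl : IsClosed (Set.range iB.left) := iB.left.isClosedEmbedding.isClosed_range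
    have h1 : (Set.univ : Set C.left) ⊆ Set.range iB.left ∪ (O : Set C.left)ᶜ :=
      subset_of_pts (X := C) isClosed_univ (hcl.union O.isOpen.isClosed_compl) fun x _ => by
        by_cases hx : ptOf x ∈ O
        · obtain ⟨b, rfl⟩ := hpts x hx
          exact Or.inl ⟨ptOf b, rfl⟩
        · exact Or.inr hx
    have h2 : (O : Set C.left) ⊆ Set.range iB.left := fun x hx => (h1 trivial).resolve_right (not_not.2 hx)
    exact Set.univ_subset_iff.1 ((O.isOpen.dense hO).closure_eq.symm.le.trans (closure_minimal h2 hcl))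
  haveI : Surjective iB.left := ⟨Set.range_eq_univ.1 hr⟩
  haveI : IsIso iB.left := isIso_of_isClosedImmersion_of_surjective _
  haveI : IsIso ((Over.forget _).map iB) := ‹IsIso iB.left›
  haveI : IsIso iB := isIso_of_reflects_iso iB (Over.forget _)
  haveI : IsMonHom (inv iB) := inferInstanceAs (IsMonHom (asIso iB).inv)
  have hs : Red.IsSolvableGrp C := isSolvableGrp_of_mono (inv iB) hB.2.2.2.2.1
  exact hne (ht.2.2.2 C (𝟙 C) t (isTorus_of_solvable hC hs) (Category.comp_id _))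

variable {G : Over (Spec (CommRingCat.of k))} [GrpObj G] {A : Type u} [CommRing A] [HopfAlgebra k A] {r : ℕ}

/-- the reflection of a weight occurring in the cotangent space -/
theorem exists_reflection (hG : Red.IsReductiveOver k G) {iT : TT k r ⟶ G} (hT : AGF.IsMaxTorus iT)
    (hfin : (weyl iT).Finite) (jG : G ⟶ P k A) [IsMonHom jG] [IsIso jG] {φ : A →ₐc[k] TB k r}
    (hφ : sp φ = iT ≫ jG) {a : Fin r → ℤ} (ha : a ≠ 0) {y : A} (hy : piece φ a y ∉ aug k A ^ 2) :
    ∃ a₀ : Fin r → ℤ, (∀ f : (Fin r → ℤ) →+ ℤ, f a₀ = 0 → f a = 0) ∧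
      ∃ θ ∈ weyl iT, θ a₀ = -a₀ ∧ ∀ x, ∃ q : ℤ, θ x - x = q • a₀ := by
  haveI := hG.1; haveI := hG.2.1; haveI := hG.2.2.1
  haveI := hT.1; haveI := hT.2.1
  obtain ⟨r', p, a₀, hp, ha₀, hker, hpa, -⟩ := Groth.L14.Luna.SemiRank.exists_line_proj ha
  haveI := isClosedImmersion_dP k p hp
  haveI : Mono (dP k p) := Groth.L08.mono_of_closedImmersion _
  let iS : TT k r' ⟶ G := dP k p ≫ iT
  haveI : IsMonHom iS := inferInstanceAs (IsMonHom (dP k p ≫ iT))
  haveI : Mono iS := inferInstanceAs (Mono (dP k p ≫ iT))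
  have hS := isTorus_TT k r'
  obtain ⟨C, gC, c, hc⟩ := exists_centralizer_torus iS hS
  obtain ⟨hcc, hCa, hCs, hCc, -, hcen⟩ := centralizer_props hS hc
  haveI := hcc; haveI := hCa; haveI := hCs; haveI := hCc; haveI := hc.1; haveI := hc.2.1
  obtain ⟨-, -, -, -, hcomm⟩ := torus_props hT.2.2.1
  obtain ⟨t, ht⟩ := (hc.2.2 _ iT).2 fun X x h => by
    show (x ≫ iT) * (h ≫ dP k p ≫ iT) = (h ≫ dP k p ≫ iT) * (x ≫ iT)
    simp only [← Category.assoc]
    rw [← MonObj.mul_comp, ← MonObj.mul_comp, hcomm]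
  haveI : IsMonHom t := isMonHom_of_comp_mono t c iT ht
  haveI : Mono t := by haveI : Mono (t ≫ c) := ht ▸ hT.2.1; exact mono_of_mono t c
  have hC := Groth.L14.Luna.isReductiveOver_centralizer hG hS hc
  have hmax : AGF.IsMaxTorus t := ⟨inferInstance, inferInstance, hT.2.2.1, fun T' _ j _ _ f hT' hf => by
    haveI : Mono (j ≫ c) := mono_comp _ _
    exact hT.2.2.2 T' (j ≫ c) f hT' (by rw [← Category.assoc, hf, ht])⟩
  -- the centralizer is larger than the torus
  have hne : ¬ IsIso t := by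
    intro hiso
    obtain ⟨D, _, _, g, hg1, hg2⟩ := exists_extra φ p hpa ha hy
    refine hg2 ?_
    obtain ⟨z, hz⟩ := (hc.2.2 _ (toPt (toConv g) ≫ inv jG)).2 fun X x s => by
      rw [← cancel_mono jG]
      simp only [iS, MonObj.mul_comp, Category.assoc, IsIso.inv_hom_id, Category.comp_id, ← hφ]
      exact commute_of_torCommutes φ p hg1 x s
    refine torCommutes_of_factor φ g (z ≫ inv t) ?_
    rw [hφ, Category.assoc, ← Category.assoc (inv t), show inv t ≫ iT = c by rw [IsIso.inv_comp_eq, ht]]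
    rw [← Category.assoc, hz, Category.assoc, IsIso.inv_hom_id, Category.comp_id]
  obtain ⟨B, B', gB, gB', iB, iB', u, u', hB, hB', hu, hu', hdist⟩ := exists_two_borels hC hmax hne
  obtain ⟨n, τ, σ, hτ, hσ⟩ := exists_normalizing hmax hB hB' u hu u' hu'
  obtain ⟨θ, hθ⟩ := exists_acts (iT := iT) (n := n ≫ c) (τ := τ.hom) (by
    rw [← ht, ← Category.assoc, hτ, conjBy_comp])
  obtain ⟨θ', -, -, hθ', hinv, -⟩ := exists_inv hT hθ
  have hcent : ∀ m : U1 ⟶ C, AGF.conjBy (m ≫ c) iS = iS := fun m => by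
    simp only [AGF.conjBy]
    have h1 := hcen (TT k r') (toUnit _ ≫ m) (𝟙 _)
    rw [Category.id_comp, Category.assoc] at h1
    rw [h1, mul_inv_cancel_right]
  have hfix : ∀ {m : U1 ⟶ C} {ρ : (Fin r → ℤ) →+ (Fin r → ℤ)}, Acts iT (m ≫ c) ρ → p.comp ρ = p := by
    intro m ρ hρ
    refine dP_injective k ((cancel_mono iT).1 ?_)
    rw [← dP_comp, Category.assoc, ← hρ, comp_conjBy]
    exact hcent m
  have hθ'' : Acts iT (n⁻¹ ≫ c) θ' := by rw [GrpObj.inv_comp]; exact hθ'
  refine ⟨a₀, fun f hf => ?_, θ, ⟨_, hθ⟩, ?_, fun x => ?_⟩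
  · obtain ⟨q, hq⟩ := (hker a).1 hpa
    rw [hq, map_zsmul, hf, smul_zero]
  · refine (Groth.L14.Luna.SemiRank.sign_of_aut ha₀ hker (hfix hθ) (hfix hθ'') hinv).resolve_left fun hfix0 => ?_
    -- a finite order argument
    obtain ⟨N, hN, hord⟩ : ∃ N : ℕ, N ≠ 0 ∧ ∀ x, θ^[N] x = x := by
      choose θm hm hmx using fun m : ℕ => acts_pow hθ m
      obtain ⟨i, j, hij, he⟩ := hfin.exists_lt_map_eq_of_forall_mem (f := θm) fun m => (⟨_, hm m⟩ : θm m ∈ weyl iT)
      refine ⟨j - i, Nat.sub_ne_zero_of_lt hij, fun x => ?_⟩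
      have h1 : ∀ x, θ^[i] x = θ^[j] x := fun x => by rw [← hmx, ← hmx, he]
      have h2 : θ^[i] (θ^[j - i] x) = θ^[i] x := by
        rw [← Function.iterate_add_apply, Nat.add_sub_cancel' hij.le, h1]
      exact Function.Injective.iterate (weyl_injective hT ⟨_, hθ⟩) i h2
    have hid := Groth.L14.Luna.SemiRank.eq_id_of_finite_order hker (hfix hθ) hfix0 hN hord
    obtain ⟨s, hs⟩ := exists_lift_of_centralizes hG hT (z := n ≫ c) (by
      rw [hθ, hid, dP_id, Category.id_comp])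
    have hn : n = s ≫ t := (cancel_mono c).1 (by rw [Category.assoc, ht, hs])
    haveI := hB.1
    obtain ⟨κ, hκ⟩ := exists_conjIso (s ≫ u)
    refine hdist ⟨κ.symm ≪≫ σ, ?_⟩
    rw [Iso.trans_hom, Category.assoc, hσ, Iso.symm_hom, Iso.inv_comp_eq, hn]
    have e : κ.hom = AGF.conjBy (s ≫ u) (𝟙 B) := (Category.id_comp _).symm.trans (hκ _)
    rw [e, conjBy_comp, Category.id_comp, Category.assoc, hu]
  · exact (hker _).1 (by rw [map_sub, ← AddMonoidHom.comp_apply, hfix hθ, sub_self])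

end Groth.L06.CoxeterElt
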