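import Groth.Agent.L08.TorusQuot.Affine
import Groth.Agent.L25.Dyn.CentConn
import Groth.Agent.L25.Observable.UnipFixed
import Groth.Agent.L25.TorLift.Central
import Groth.Agent.L08.Borel.TorusImage
import Mathlib.RingTheory.Bialgebra.MonoidAlgebra
import Mathlib.RingTheory.HopfAlgebra.MonoidAlgebra

/-!
# Split tori as spectra of group algebras: endomorphisms and rational points
-/

set_option autoImplicit false
set_option linter.unusedSectionVars false
set_option linter.style.haveILetI false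
set_option backward.isDefEq.respectTransparency.types false

universe u

open CategoryTheory CategoryTheory.Limits MonoidalCategory CartesianMonoidalCategory MonObj AlgebraicGeometry
open WithConv
open Groth.L25.Bridge (P)
open Groth.L08.TorusQuot (sp sp_left sp_comp exists_sp toPt ofPt toPt_ofPt toPt_pre SP Pt pre)

noncomputable section

namespace Groth.L06.CoxeterElt

variable (k : Type u) [Field k]

/-- the coordinate ring of a split torus -/
abbrev TB (r : ℕ) : Type u := AddMonoidAlgebra k (Fin r → ℤ)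

/-- the split torus -/
abbrev TT (r : ℕ) : Over (Spec (CommRingCat.of k)) := P k (TB k r)

local notation "U1" => 𝟙_ (Over (Spec (CommRingCat.of k)))

variable {r r' r'' : ℕ}

/-- the bialgebra map of a map of characters -/
abbrev md (p : (Fin r → ℤ) →+ (Fin r' → ℤ)) : TB k r →ₐc[k] TB k r' := AddMonoidAlgebra.mapDomainBialgHom k p

/-- the homomorphism of tori of a map of characters -/
abbrev dP (p : (Fin r → ℤ) →+ (Fin r' → ℤ)) : TT k r' ⟶ TT k r := sp (md k p)

theorem sp_retract {A B : Type u} [CommRing A] [HopfAlgebra k A] [CommRing B] [HopfAlgebra k B] (f : B →ₐc[k] A)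
    (c : A →ₐc[k] B) (h : ∀ x, f (c x) = x) : sp f ≫ sp c = 𝟙 (P k A) := by
  rw [sp_comp]
  refine Over.OverMorphism.ext ?_
  show Spec.map (CommRingCat.ofHom (f.comp c : A →+* A)) = 𝟙 _
  rw [show CommRingCat.ofHom (f.comp c : A →+* A) = 𝟙 _ from CommRingCat.hom_ext (RingHom.ext h)]
  exact Spec.map_id _

/-- the two group algebra presentations of a split torus -/
def eIso (r : ℕ) : P k (MonoidAlgebra k (Multiplicative (Fin r → ℤ))) ≅ TT k r where
  hom := sp (AddMonoidAlgebra.toMultiplicativeBialgEquiv k k (Fin r → ℤ) :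
    TB k r →ₐc[k] MonoidAlgebra k (Multiplicative (Fin r → ℤ)))
  inv := sp ((AddMonoidAlgebra.toMultiplicativeBialgEquiv k k (Fin r → ℤ)).symm :
    MonoidAlgebra k (Multiplicative (Fin r → ℤ)) →ₐc[k] TB k r)
  hom_inv_id := sp_retract k _ _ (AddMonoidAlgebra.toMultiplicativeBialgEquiv k k (Fin r → ℤ)).apply_symm_apply
  inv_hom_id := sp_retract k _ _ (AddMonoidAlgebra.toMultiplicativeBialgEquiv k k (Fin r → ℤ)).symm_apply_apply

instance (r : ℕ) : IsMonHom (eIso k r).hom := inferInstanceAs (IsMonHom (sp _))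

theorem isTorus_TT [IsAlgClosed k] (r : ℕ) : Red.IsTorus (TT k r) := by
  let eM := AddMonoidAlgebra.toMultiplicativeBialgEquiv k k (Fin r → ℤ)
  haveI : IsMonHom (eIso k r).hom := inferInstanceAs (IsMonHom (sp _))
  exact Groth.L25.TorLift.isTorus_of_iso (Grp.mkIso' (eIso k r)) (Groth.L25.Observable.isTorus_P r)

theorem exists_iso_TT [IsAlgClosed k] {T : Over (Spec (CommRingCat.of k))} [GrpObj T] (hT : Red.IsTorus T) :
    ∃ (r : ℕ) (e : T ≅ TT k r), IsMonHom e.hom ∧ IsMonHom e.inv := by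
  obtain ⟨r, ⟨eT⟩⟩ := Groth.L08.Borel.exists_laurent_of_torus hT
  let eM := AddMonoidAlgebra.toMultiplicativeBialgEquiv k k (Fin r → ℤ)
  let e₂ := eIso k r
  haveI : IsMonHom eT.hom.hom.hom := eT.hom.hom.isMonHom_hom
  haveI : IsMonHom eT.inv.hom.hom := eT.inv.hom.isMonHom_hom
  haveI : IsMonHom e₂.hom := inferInstanceAs (IsMonHom (sp _))
  haveI : IsMonHom e₂.inv := inferInstanceAs (IsMonHom (sp _))
  exact ⟨r, ⟨eT.hom.hom.hom ≫ e₂.hom, e₂.inv ≫ eT.inv.hom.hom, by
      rw [Category.assoc, Iso.hom_inv_id_assoc]; exact congrArg (fun f => f.hom.hom) eT.hom_inv_id, by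
      rw [Category.assoc, show eT.inv.hom.hom ≫ eT.hom.hom.hom ≫ e₂.hom = e₂.hom by
        rw [← Category.assoc, show eT.inv.hom.hom ≫ eT.hom.hom.hom = 𝟙 _ from
          congrArg (fun f => f.hom.hom) eT.inv_hom_id, Category.id_comp], Iso.inv_hom_id]⟩,
    (inferInstance : IsMonHom (eT.hom.hom.hom ≫ e₂.hom)), (inferInstance : IsMonHom (e₂.inv ≫ eT.inv.hom.hom))⟩

theorem dP_id : dP k (AddMonoidHom.id (Fin r → ℤ)) = 𝟙 _ := by
  refine Over.OverMorphism.ext ?_
  show Spec.map (CommRingCat.ofHom ((md k (AddMonoidHom.id (Fin r → ℤ)) : TB k r →ₐc[k] TB k r) : TB k r →+* TB k r)) = 𝟙 _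
  refine (congrArg Spec.map ?_).trans (Spec.map_id _)
  refine CommRingCat.hom_ext (RingHom.ext fun x => ?_)
  show md k (AddMonoidHom.id _) x = x
  rw [md, AddMonoidAlgebra.mapDomainBialgHom_id]
  rfl

theorem dP_comp (p : (Fin r → ℤ) →+ (Fin r' → ℤ)) (q : (Fin r' → ℤ) →+ (Fin r'' → ℤ)) :
    dP k q ≫ dP k p = dP k (q.comp p) := by
  rw [dP, dP, sp_comp, dP, md, md, md, AddMonoidAlgebra.mapDomainBialgHom_comp]

theorem dP_injective {p p' : (Fin r → ℤ) →+ (Fin r' → ℤ)} (h : dP k p = dP k p') : p = p' := by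
  refine AddMonoidHom.ext fun m => ?_
  have h1 := congrArg Over.Hom.left h
  rw [dP, dP, sp_left, sp_left] at h1
  have h2 := RingHom.congr_fun (congrArg CommRingCat.Hom.hom (Spec.map_injective h1))
    (AddMonoidAlgebra.single m (1 : k))
  change md k p (AddMonoidAlgebra.single m (1 : k)) = md k p' (AddMonoidAlgebra.single m (1 : k)) at h2
  rw [md, md, AddMonoidAlgebra.mapDomainBialgHom_single, AddMonoidAlgebra.mapDomainBialgHom_single] at h2
  exact AddMonoidAlgebra.single_left_injective (one_ne_zero (α := k)) h2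

theorem exists_dP (u : TT k r' ⟶ TT k r) [IsMonHom u] : ∃ p, u = dP k p := by
  obtain ⟨c, hc⟩ := exists_sp (B := TB k r) u
  exact ⟨AddMonoidAlgebra.mapDomainOfBialgHom c, by
    rw [dP, md, AddMonoidAlgebra.mapDomainBialgHom_mapDomainOfBialgHom, hc]⟩

theorem isClosedImmersion_dP (p : (Fin r → ℤ) →+ (Fin r' → ℤ)) (hp : Function.Surjective p) :
    IsClosedImmersion (dP k p).left := by
  rw [dP, sp_left]
  refine IsClosedImmersion.spec_of_surjective _ fun x => ?_
  induction x using AddMonoidAlgebra.induction_linear with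
  | zero => exact ⟨0, map_zero _⟩
  | add a b ha hb =>
    obtain ⟨a', rfl⟩ := ha
    obtain ⟨b', rfl⟩ := hb
    exact ⟨a' + b', map_add _ _ _⟩
  | single m c =>
    obtain ⟨m', rfl⟩ := hp m
    exact ⟨AddMonoidAlgebra.single m' c, AddMonoidAlgebra.mapDomainBialgHom_single _ _ _⟩

/-- the base point of the spectrum of the field -/
def e1 : U1 ≅ SP k k := Over.isoMk (Iso.refl _) (by
  show 𝟙 _ ≫ Spec.map (CommRingCat.ofHom (algebraMap k k)) = 𝟙 _
  rw [Algebra.algebraMap_self, Category.id_comp]; exact Spec.map_id _)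

/-- the rational point of a character -/
def chPt (χ : Multiplicative (Fin r → ℤ) →* k) : U1 ⟶ TT k r :=
  (e1 k).hom ≫ toPt (AddMonoidAlgebra.liftMulEquiv k k (Fin r → ℤ) χ)

theorem chPt_mul (χ χ' : Multiplicative (Fin r → ℤ) →* k) : chPt k (χ * χ') = chPt k χ * chPt k χ' := by
  rw [chPt, map_mul, toPt, map_mul, MonObj.comp_mul]
  rfl

theorem chPt_one : chPt k (1 : Multiplicative (Fin r → ℤ) →* k) = 1 := by
  rw [chPt, map_one, toPt, map_one, MonObj.comp_one]

theorem chPt_dP (χ : Multiplicative (Fin r' → ℤ) →* k) (p : (Fin r → ℤ) →+ (Fin r' → ℤ)) :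
    chPt k χ ≫ dP k p = chPt k (χ.comp (AddMonoidHom.toMultiplicative p)) := by
  rw [chPt, chPt, Category.assoc, dP, ← toPt_pre]
  congr 2
  refine WithConv.ext (AddMonoidAlgebra.algHom_ext (fun m => ?_) (Algebra.ext_id _ _ _))
  show AddMonoidAlgebra.lift k k _ χ (md k p (AddMonoidAlgebra.single m 1)) =
    AddMonoidAlgebra.lift k k _ (χ.comp (AddMonoidHom.toMultiplicative p)) (AddMonoidAlgebra.single m 1)
  rw [md, AddMonoidAlgebra.mapDomainBialgHom_single, AddMonoidAlgebra.lift_single, AddMonoidAlgebra.lift_single]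
  rfl

theorem chPt_surjective (t : U1 ⟶ TT k r) : ∃ χ, chPt k χ = t := by
  refine ⟨(AddMonoidAlgebra.liftMulEquiv k k (Fin r → ℤ)).symm (ofPt ((e1 k).inv ≫ t)), ?_⟩
  rw [chPt, MulEquiv.apply_symm_apply, toPt_ofPt, Iso.hom_inv_id_assoc]

theorem chPt_injective {χ χ' : Multiplicative (Fin r → ℤ) →* k} (h : chPt k χ = chPt k χ') : χ = χ' := by
  rw [chPt, chPt, cancel_epi] at h
  exact (AddMonoidAlgebra.liftMulEquiv k k (Fin r → ℤ)).injective (Spec.mapMulEquiv.injective h)

theorem chPt_pow (χ : Multiplicative (Fin r → ℤ) →* k) (n : ℕ) : chPt k (χ ^ n) = chPt k χ ^ n := by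
  induction n with
  | zero => rw [pow_zero, pow_zero, chPt_one]
  | succ n ih => rw [pow_succ, pow_succ, chPt_mul, ih]

end Groth.L06.CoxeterElt
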